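import Mathlib

set_option autoImplicit false

namespace Cfsg.Agent.Lib.Helper20.S3571
open Equiv

/-- the maximality principle: an overgroup `L` of `H` inside the alternating group that is
invariant under every permutation normalising `H` is `H` or the alternating group -/
def MP (m : ℕ) (H : Subgroup (Perm (Fin m))) : Prop :=
  ∀ L : Subgroup (Perm (Fin m)), H ≤ L → L ≤ alternatingGroup (Fin m) →
    (∀ σ : Perm (Fin m), (∀ h : Perm (Fin m), h ∈ H ↔ σ * h * σ⁻¹ ∈ H) →
      ∀ l ∈ L, σ * l * σ⁻¹ ∈ L) →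
    L = H ∨ L = alternatingGroup (Fin m)

/-- the conclusion of the core: an even permutation of order `r` with no conjugate in `H` -/
def Concl (m : ℕ) (H : Subgroup (Perm (Fin m))) (r : ℕ) : Prop :=
  ∃ a : Perm (Fin m), a ∈ alternatingGroup (Fin m) ∧ orderOf a = r ∧
    ∀ x : Perm (Fin m), x ∈ alternatingGroup (Fin m) → x * a * x⁻¹ ∉ H

/-- the image in `Perm (Fin m)` of the stabiliser in `T` of the point `ω` -/
def stabImage {G Ω : Type*} [Group G] [MulAction G Ω] (T : Subgroup G) (m : ℕ)
    (eT : ↥T ≃* ↥(alternatingGroup (Fin m))) (ω : Ω) : Subgroup (Perm (Fin m)) :=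
  Subgroup.map ((alternatingGroup (Fin m)).subtype.comp eT.toMonoidHom)
    (MulAction.stabilizer ↥T ω)

end Cfsg.Agent.Lib.Helper20.S3571
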