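import Mathlib
import Cfsg.Agent.Lib.Helper20.S3571.Defs
import Cfsg.Agent.Lib.Helper20.SS.Main
import Cfsg.Agent.Lib.Helper10.S3571C0
import Cfsg.Agent.Lib.Helper10.S3571C1
import Cfsg.Agent.Lib.Helper10.S3571C2
import Cfsg.Agent.Lib.helper3.S3571C3
import Cfsg.Agent.Lib.Helper11.S3571C4
import Cfsg.Agent.Lib.helper6.S3571C5
import Cfsg.Agent.Lib.helper6.S3571C6
import Cfsg.Agent.Lib.Helper16.S3571C7
import Cfsg.Agent.Lib.Helper16.S3571C7b
import Cfsg.Agent.Lib.helper3.S3571C8
import Cfsg.Agent.Lib.Helper16.S3571C9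
import Cfsg.Agent.Lib.Helper16.S3571C9b
import Cfsg.Agent.Lib.helper2.S3571C11
import Cfsg.Agent.Lib.Helper13.S3571BR1
import Cfsg.Agent.Lib.Helper20.S3571BR3
import Cfsg.Agent.Lib.Helper18.S3571BR4
import Cfsg.Agent.Lib.Helper18.S3571BR5

set_option autoImplicit false

namespace Cfsg.Agent.Lib.Helper20.S3571
open Equiv

/-- C10: the intransitive case (with the maximality principle). -/
theorem concl_of_intrans (m : ℕ) (hm : 5 ≤ m) (H : Subgroup (Perm (Fin m)))
    (hHA : H ≤ alternatingGroup (Fin m)) (hMP : MP m H) (n : ℕ)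
    (hn : n * Nat.card H = Nat.card (alternatingGroup (Fin m))) (r : ℕ) (hr : r.Prime)
    (hrd : r ∣ n) (hmax : ∀ s : ℕ, s.Prime → s ∣ n → s ≤ r) (c : Perm (Fin m)) (hcH : c ∈ H)
    (hc : c.IsCycle) (hc2 : m < 2 * c.support.card)
    (hnt : ¬ MulAction.IsPretransitive ↥H (Fin m)) : Concl m H r := by
  obtain ⟨W, hW2, hWm, hH⟩ := eq_stabilizer_of_intrans m hm H hHA hMP c hcH hc hc2 hnt
  have hW0 : 0 < W.card := by omega
  have hidx := index_stabilizer m hm W H hH hW0 hWm
  have hHpos : 0 < Nat.card H := Nat.card_pos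
  have hn' : n = m.choose W.card := by
    rw [← hn] at hidx
    exact Nat.eq_of_mul_eq_mul_right hHpos hidx
  set u := m - W.card with hu
  have hu0 : 0 < u := by omega
  have hchoose : m.choose W.card = m.choose u := by
    rw [hu, Nat.choose_symm hWm.le]
  obtain ⟨q, hq, hqu, hqd⟩ := SS.sylvester_schur (n := m) (k := u) hu0 (by omega)
  have hqr : q ≤ r := hmax q hq (by rw [hn', hchoose]; exact hqd)
  have hur : u < r := lt_of_lt_of_le hqu hqr
  obtain ⟨i, hiu, hid⟩ := exists_lt_dvd_sub hr (by omega : u ≤ m) (by rw [← hchoose, ← hn']; exact hrd)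
  have hpar : r ≠ 2 ∨ 4 ∣ m - i := by
    by_cases h2 : r = 2
    · right
      have hu1 : u = 1 := by omega
      have hi0 : i = 0 := by omega
      have hnm : n = m := by rw [hn', hchoose, hu1, Nat.choose_one_right]
      rw [hi0, Nat.sub_zero]
      apply four_dvd_of_two_power hm
      intro s hs hsd
      rw [← h2]
      exact hmax s hs (by rw [hnm]; exact hsd)
    · left; exact h2
  obtain ⟨a, haA, hao, hafix⟩ := exists_perm_fixing m r i hr (by omega) hid hpar
  refine ⟨a, haA, hao, ?_⟩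
  intro x hx hmem
  have h1 := (hH _).mp hmem
  have hpow : (x * a * x⁻¹) ^ r = 1 := by
    rw [conj_pow, ← hao, pow_orderOf_eq_one]; simp
  have hfix := fixed_of_mem_stabilizer m W (x * a * x⁻¹) h1.2 r hr hpow (by omega)
  have hsub : (Finset.univ \ W) ⊆ Finset.univ.filter (fun y => (x * a * x⁻¹) y = y) := by
    intro y hy
    rw [Finset.mem_sdiff] at hy
    rw [Finset.mem_filter]
    exact ⟨Finset.mem_univ _, hfix y hy.2⟩
  have hcard := Finset.card_le_card hsub
  rw [card_fixed_conj, hafix, Finset.card_sdiff_of_subset (Finset.subset_univ W),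
    Finset.card_univ, Fintype.card_fin] at hcard
  omega

/-- the core -/
theorem core (m : ℕ) (hm : 5 ≤ m) (H : Subgroup (Perm (Fin m)))
    (hHA : H ≤ alternatingGroup (Fin m)) (hne : H ≠ alternatingGroup (Fin m))
    (hMP : m ≠ 6 → MP m H) (n : ℕ)
    (hn : n * Nat.card H = Nat.card (alternatingGroup (Fin m))) (r : ℕ) (hr : r.Prime)
    (hrd : r ∣ n) (hmax : ∀ s : ℕ, s.Prime → s ∣ n → s ≤ r) : Concl m H r := by
  obtain ⟨p, hp, hp1, hp2⟩ := Nat.exists_prime_lt_and_le_two_mul (m / 2) (by omega)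
  have hpm : p ≤ m := by omega
  have hp2' : m < 2 * p := by omega
  by_cases hpn : p ∣ n
  · exact concl_of_not_dvd m hm H hHA n hn r hr hrd
      (not_dvd_of_big_prime m hm H hHA n hn r hr hrd hmax p hp hpm hp2' hpn)
  · obtain ⟨c, hcH, hc, hcs⟩ := exists_cycle_mem m hm H hHA n hn p hp hpm hp2' hpn
    by_cases hHt : MulAction.IsPretransitive ↥H (Fin m)
    · have hprim := preprimitive_of_cycle m H hHt c hcH hc (by rw [hcs]; exact hp)
        (by rw [hcs]; exact hp2')
      exact h11_concl_of_preprimitive_aux m hm H hHA hne hprim n hn r hr hrd hmax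
        (fun hrm h2r => concl_of_not_dvd m hm H hHA n hn r hr hrd
          (not_dvd_of_big_prime m hm H hHA n hn r hr hrd hmax r hr hrm h2r hrd))
    · by_cases h6 : m = 6
      · subst h6
        have hp5 : p = 5 := by
          have h4 : p ≠ 4 := fun h => by rw [h] at hp; exact absurd hp (by norm_num)
          have h6 : p ≠ 6 := fun h => by rw [h] at hp; exact absurd hp (by norm_num)
          omega
        exact concl_of_intrans_six H hHA n hn r hr hrd hmax (by rw [← hp5]; exact hpn) c hcH hc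
          (by rw [hcs, hp5]) hHt
      · exact concl_of_intrans m hm H hHA (hMP h6) n hn r hr hrd hmax c hcH hc
          (by rw [hcs]; exact hp2') hHt

/-- the statement S3571 -/
theorem main {G Ω : Type*} [Group G] [Finite G] [MulAction G Ω] [FaithfulSMul G Ω] [Finite Ω]
    (T : Subgroup G) (hT : T.Normal) (hTc : Subgroup.centralizer (T : Set G) = ⊥) (m : ℕ) (hm : 5 ≤ m)
    (eT : ↥T ≃* ↥(alternatingGroup (Fin m))) (hprim : MulAction.IsPreprimitive G Ω) (hΩ : 2 ≤ Nat.card Ω)
    (r : ℕ) (hr : r.Prime) (hrd : r ∣ Nat.card Ω) (hmax : ∀ s : ℕ, s.Prime → s ∣ Nat.card Ω → s ≤ r) :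
    ∃ g : G, orderOf g = r ∧ ∀ ω : Ω, g • ω ≠ ω := by
  have hne : Nonempty Ω := by
    by_contra h
    rw [not_nonempty_iff] at h
    rw [Nat.card_of_isEmpty] at hΩ
    omega
  obtain ⟨ω⟩ := hne
  have hnt : Nontrivial Ω := by
    rw [← Finite.one_lt_card_iff_nontrivial]; omega
  have hT1 : T ≠ ⊥ := by
    intro h
    have h1 : Nat.card ↥T = 1 := by rw [h]; exact Subgroup.card_bot
    have h2 : Nat.card ↥(alternatingGroup (Fin m)) = 1 := by rw [← Nat.card_congr eT.toEquiv]; exact h1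
    have : Nontrivial (Fin m) := Fin.nontrivial_iff_two_le.mpr (by omega)
    have h3 := two_mul_card_alternatingGroup (α := Fin m)
    rw [Nat.card_eq_fintype_card] at h2
    rw [h2, Fintype.card_perm, Fintype.card_fin] at h3
    have h4 : Nat.factorial 5 ≤ Nat.factorial m := Nat.factorial_le hm
    have h5 : Nat.factorial 5 = 120 := by decide
    omega
  have hTt := transitive_of_normal hprim T hT hT1
  obtain ⟨h1, h2, h3⟩ := stabImage_props m T eT hTt hΩ ω
  have hMP : m ≠ 6 → MP m (stabImage T m eT ω) := fun h6 =>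
    mp_of_primitive m hm h6 hprim T hT eT ω
  obtain ⟨a, haA, hao, ha⟩ := core m hm (stabImage T m eT ω) h1 h2 hMP (Nat.card Ω) h3 r hr hrd hmax
  refine ⟨((eT.symm ⟨a, haA⟩ : ↥T) : G), ?_, derangement_of_concl m T eT hTt ω a haA ha⟩
  rw [Subgroup.orderOf_coe, MulEquiv.orderOf_eq, ← hao]
  exact (Subgroup.orderOf_coe (⟨a, haA⟩ : ↥(alternatingGroup (Fin m)))).symm

end Cfsg.Agent.Lib.Helper20.S3571
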